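import Groth.Agent.DomMod.Basic
import Mathlib.Algebra.Module.LocalizedModule.Basic
import Mathlib.RingTheory.Localization.AtPrime.Basic
import Mathlib.RingTheory.Localization.FractionRing
import Mathlib.RingTheory.Noetherian.Basic
import Mathlib.LinearAlgebra.StdBasis
import Mathlib.RingTheory.Localization.Finiteness
import Mathlib.RingTheory.Localization.Submodule
import Mathlib.RingTheory.Localization.Module
import Mathlib.Algebra.Module.LocalizedModule.Exact

/-!
Reflexive finite modules over domains.
-/

set_option autoImplicit false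
set_option linter.style.haveILetI false

universe u v

namespace Groth.Agent.DomMod

variable {R : Type u} [CommRing R] [IsDomain R]

theorem isTorsionFree_hom (M N : Type u) [AddCommGroup M] [Module R M] [AddCommGroup N] [Module R N]
    [Module.IsTorsionFree R N] : Module.IsTorsionFree R (M →ₗ[R] N) :=
  Module.IsTorsionFree.mk fun _ hr _ _ h => LinearMap.ext fun m => hr.isSMulRegular (LinearMap.congr_fun h m)

/-- Kernel of a map from a reflexive module to a torsion-free module. -/
theorem isReflexive_of_exact {M M' M'' : Type u} [AddCommGroup M] [Module R M] [Module.Finite R M]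
    [AddCommGroup M'] [Module R M'] [AddCommGroup M''] [Module R M''] [Module.Finite R M'']
    (f : M →ₗ[R] M') (g : M' →ₗ[R] M'') (hf : Function.Injective f) (hfg : Function.Exact f g)
    [Module.IsReflexive R M'] [Module.IsTorsionFree R M''] : Module.IsReflexive R M := by
  haveI : Module.IsTorsionFree R M := hf.moduleIsTorsionFree f f.map_smul
  obtain ⟨c, hc, -, hc2⟩ := eval_kernel_cokernel_torsion R M
  refine ⟨⟨(eval_injective_iff R M).mpr inferInstance, fun y => ?_⟩⟩
  obtain ⟨m', hm'⟩ := (Module.bijective_dual_eval R M').2 (f.dualMap.dualMap y)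
  have hg : g m' = 0 := (eval_injective_iff R M'').mpr inferInstance (by
    rw [map_zero]
    refine LinearMap.ext fun φ => ?_
    have h1 := LinearMap.congr_fun hm' (φ ∘ₗ g)
    have h0 : (φ ∘ₗ g) ∘ₗ f = 0 := by
      rw [LinearMap.comp_assoc, hfg.linearMap_comp_eq_zero, LinearMap.comp_zero]
    simpa [LinearMap.dualMap_apply', h0] using h1)
  obtain ⟨m, rfl⟩ := (hfg m').mp hg
  refine ⟨m, ?_⟩
  obtain ⟨x, hx⟩ := hc2 (y - Module.Dual.eval R M m)
  have h2 : Module.Dual.eval R M' (f x) = 0 := by
    refine LinearMap.ext fun φ => ?_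
    have h3 := LinearMap.congr_fun hx (φ ∘ₗ f)
    have h4 := LinearMap.congr_fun hm' φ
    simp only [LinearMap.dualMap_apply', Module.Dual.eval_apply, LinearMap.comp_apply, LinearMap.smul_apply,
      LinearMap.sub_apply] at h3 h4
    simp [h3, h4]
  have h5 : f x = 0 := (Module.bijective_dual_eval R M').1 (h2.trans (map_zero _).symm)
  rw [hf (h5.trans (map_zero f).symm), map_zero] at hx
  refine (sub_eq_zero.mp (LinearMap.ext fun φ => ?_)).symm
  have h6 := LinearMap.congr_fun hx φ
  simp only [LinearMap.zero_apply, LinearMap.smul_apply, smul_eq_mul] at h6 ⊢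
  exact (mul_eq_zero.mp h6.symm).resolve_left hc

/-- The dual of a finite module over a Noetherian domain is finite. -/
theorem finite_dual (M : Type u) [AddCommGroup M] [Module R M] [Module.Finite R M] [IsNoetherianRing R] :
    Module.Finite R (Module.Dual R M) := by
  obtain ⟨n, π, hπ⟩ := Module.Finite.exists_fin' R M
  haveI : IsNoetherian R (Module.Dual R (Fin n → R)) := isNoetherian_of_isNoetherianRing_of_finite R _
  exact Module.Finite.of_injective π.dualMap (LinearMap.dualMap_injective_of_surjective hπ)

/-- The dual of a finite module over a domain is reflexive. -/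
theorem isReflexive_dual (M : Type u) [AddCommGroup M] [Module R M] [Module.Finite R M] :
    Module.IsReflexive R (Module.Dual R M) := by
  obtain ⟨c, hc, -, hc2⟩ := eval_kernel_cokernel_torsion R M
  refine ⟨⟨fun φ ψ h => LinearMap.ext fun m => LinearMap.congr_fun h (Module.Dual.eval R M m),
    fun Ψ => ⟨Ψ ∘ₗ Module.Dual.eval R M, ?_⟩⟩⟩
  refine LinearMap.ext fun y => ?_
  obtain ⟨x, hx⟩ := hc2 y
  refine mul_left_cancel₀ hc ?_
  rw [← smul_eq_mul, ← smul_eq_mul, ← map_smul, ← map_smul, ← hx]
  simp

/-- A reflexive finite module over a Noetherian domain sits in `0 → M → Rⁿ → Rᵐ`. -/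
theorem exists_exact_of_isReflexive (M : Type u) [AddCommGroup M] [Module R M] [Module.Finite R M]
    [IsNoetherianRing R] [Module.IsReflexive R M] :
    ∃ (n m : ℕ) (f : M →ₗ[R] (Fin n → R)) (g : (Fin n → R) →ₗ[R] (Fin m → R)),
      Function.Injective f ∧ Function.Exact f g := by
  haveI := finite_dual (R := R) M
  obtain ⟨n, π, hπ⟩ := Module.Finite.exists_fin' R (Module.Dual R M)
  haveI : Module.Finite R (LinearMap.ker π) := Module.Finite.iff_fg.mpr (IsNoetherian.noetherian _)
  obtain ⟨m, ρ, hρ⟩ := Module.Finite.exists_fin' R (LinearMap.ker π)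
  let f : M →ₗ[R] (Fin n → R) := LinearMap.pi fun i => π (Pi.single i 1)
  let g : (Fin n → R) →ₗ[R] (Fin m → R) := LinearMap.pi fun j =>
    Fintype.linearCombination R (ρ (Pi.single j 1) : Fin n → R)
  have hfval : ∀ x z, π z x = ∑ i, z i * f x i := fun x z => by
    conv_lhs => rw [pi_eq_sum_univ' z]
    simp [f]
  refine ⟨n, m, f, g, fun x y hxy => ?_, fun v => ⟨fun hv => ?_, ?_⟩⟩
  · refine (Module.bijective_dual_eval R M).1 (LinearMap.ext fun φ => ?_)
    obtain ⟨z, rfl⟩ := hπ φ
    simp only [Module.Dual.eval_apply, hfval, hxy]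
  · let V : (Fin n → R) →ₗ[R] R := Fintype.linearCombination R v
    have hV : LinearMap.ker π ≤ LinearMap.ker V := by
      intro z hz
      obtain ⟨w, hw⟩ := hρ ⟨z, hz⟩
      have h1 : V ∘ₗ (LinearMap.ker π).subtype ∘ₗ ρ = 0 := by
        refine (Pi.basisFun R (Fin m)).ext fun j => ?_
        have h2 := congrFun hv j
        simpa [g, V, Fintype.linearCombination_apply, mul_comm] using h2
      have h3 := LinearMap.congr_fun h1 w
      simpa [hw] using h3
    let Y : Module.Dual R (Module.Dual R M) :=
      (LinearMap.ker π).liftQ V hV ∘ₗ (π.quotKerEquivOfSurjective hπ).symm.toLinearMap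
    obtain ⟨x, hx⟩ := (Module.bijective_dual_eval R M).2 Y
    refine ⟨x, funext fun i => ?_⟩
    have h4 := LinearMap.congr_fun hx (π (Pi.single i 1))
    have h5 : (π.quotKerEquivOfSurjective hπ).symm (π (Pi.single i 1)) =
        Submodule.Quotient.mk (Pi.single i 1) := by rw [LinearEquiv.symm_apply_eq]; rfl
    simpa [f, Y, h5, V, Fintype.linearCombination_apply_single] using h4
  · rintro ⟨x, rfl⟩
    funext j
    have h6 : π (ρ (Pi.single j 1) : Fin n → R) = 0 := (ρ (Pi.single j 1)).2
    have h7 := hfval x (ρ (Pi.single j 1) : Fin n → R)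
    rw [h6] at h7
    simpa [g, Fintype.linearCombination_apply, mul_comm] using h7.symm

theorem isReflexive_iff_exists_injective (M : Type u) [AddCommGroup M] [Module R M] [Module.Finite R M]
    [IsNoetherianRing R] :
    Module.IsReflexive R M ↔ ∃ (n : ℕ) (f : M →ₗ[R] (Fin n → R)), Function.Injective f ∧
      Module.IsTorsionFree R ((Fin n → R) ⧸ LinearMap.range f) := by
  constructor
  · intro h
    obtain ⟨n, m, f, g, hf, hfg⟩ := exists_exact_of_isReflexive (R := R) M
    refine ⟨n, f, hf, ?_⟩
    have hle : LinearMap.range f ≤ LinearMap.ker g := (LinearMap.exact_iff.mp hfg).ge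
    refine Function.Injective.moduleIsTorsionFree ((LinearMap.range f).liftQ g hle) ?_
      ((LinearMap.range f).liftQ g hle).map_smul
    rw [← LinearMap.ker_eq_bot]
    exact Submodule.ker_liftQ_eq_bot _ _ _ (LinearMap.exact_iff.mp hfg).le
  · rintro ⟨n, f, hf, h⟩
    exact isReflexive_of_exact f (LinearMap.range f).mkQ hf f.exact_map_mkQ_range

theorem isReflexive_linearMap (M N : Type u) [AddCommGroup M] [Module R M] [Module.Finite R M]
    [AddCommGroup N] [Module R N] [Module.Finite R N] [IsNoetherianRing R] [Module.IsReflexive R N] :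
    Module.IsReflexive R (M →ₗ[R] N) := by
  classical
  obtain ⟨n, π, hπ⟩ := Module.Finite.exists_fin' R M
  haveI : Module.Finite R (LinearMap.ker π) := Module.Finite.iff_fg.mpr (IsNoetherian.noetherian _)
  obtain ⟨m, ρ, hρ⟩ := Module.Finite.exists_fin' R (LinearMap.ker π)
  obtain ⟨a, b, f, g, hf, hfg⟩ := exists_exact_of_isReflexive (R := R) N
  haveI : Module.IsReflexive R (Fin n → N) := by
    let F : (Fin n → N) →ₗ[R] (Fin n → Fin a → R) := f.compLeft (Fin n)
    let G : (Fin n → Fin a → R) →ₗ[R] (Fin n → Fin b → R) := g.compLeft (Fin n)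
    refine isReflexive_of_exact F G hf.comp_left fun v => ⟨fun hv => ?_, ?_⟩
    · have h1 : ∀ i, ∃ x, f x = v i := fun i => (hfg (v i)).mp (congrFun hv i)
      choose x hx using h1
      exact ⟨x, funext hx⟩
    · rintro ⟨x, rfl⟩
      exact funext fun i => hfg.apply_apply_eq_zero (x i)
  haveI : Module.IsTorsionFree R N := inferInstance
  haveI : IsNoetherian R (Fin n → N) := isNoetherian_of_isNoetherianRing_of_finite R _
  let e : ∀ k, (((Fin k → R) →ₗ[R] N) ≃ₗ[R] (Fin k → N)) := fun k => (Pi.basisFun R (Fin k)).constr R |>.symm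
  let F : (M →ₗ[R] N) →ₗ[R] (Fin n → N) := (e n).toLinearMap ∘ₗ LinearMap.lcomp R N π
  let G : (Fin n → N) →ₗ[R] (Fin m → N) :=
    (e m).toLinearMap ∘ₗ LinearMap.lcomp R N ((LinearMap.ker π).subtype ∘ₗ ρ) ∘ₗ (e n).symm.toLinearMap
  have hF : Function.Injective F := (e n).injective.comp fun φ ψ h => LinearMap.ext fun x => by
    obtain ⟨z, rfl⟩ := hπ x; exact LinearMap.congr_fun h z
  haveI : Module.Finite R (M →ₗ[R] N) := Module.Finite.of_injective F hF
  refine isReflexive_of_exact F G hF fun v => ?_
  obtain ⟨φ, rfl⟩ := (e n).surjective v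
  simp only [G, LinearMap.comp_apply, LinearEquiv.coe_coe, LinearEquiv.symm_apply_apply,
    LinearEquiv.map_eq_zero_iff, F, Set.mem_range, EmbeddingLike.apply_eq_iff_eq]
  constructor
  · intro hφ
    have hV : LinearMap.ker π ≤ LinearMap.ker φ := by
      intro z hz
      obtain ⟨w, hw⟩ := hρ ⟨z, hz⟩
      simpa [hw] using LinearMap.congr_fun hφ w
    refine ⟨(LinearMap.ker π).liftQ φ hV ∘ₗ (π.quotKerEquivOfSurjective hπ).symm.toLinearMap,
      LinearMap.ext fun z => ?_⟩
    have h5 : (π.quotKerEquivOfSurjective hπ).symm (π z) = Submodule.Quotient.mk z := by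
      rw [LinearEquiv.symm_apply_eq]; rfl
    simp [h5]
  · rintro ⟨ψ, rfl⟩
    exact LinearMap.ext fun w => by simp [(ρ w).2]

/-- In a localisation at a prime, maps from finite modules have bounded denominators. -/
theorem exists_dual_lift (S : Submonoid R) (hS : S ≤ nonZeroDivisors R) {M : Type u} [AddCommGroup M]
    [Module R M] [Module.Finite R M] (φ : M →ₗ[R] Localization S) :
    ∃ (s : S) (ψ : M →ₗ[R] R), ∀ x, algebraMap R (Localization S) (ψ x) = (s : R) • φ x := by
  classical
  obtain ⟨t, ht⟩ := (Module.Finite.fg_top : (⊤ : Submodule R M).FG)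
  obtain ⟨⟨b, hb⟩, hint⟩ := IsLocalization.exist_integer_multiples_of_finset S (t.image φ)
  have hall : ∀ x, b • φ x ∈ LinearMap.range (Algebra.linearMap R (Localization S)) := by
    intro x
    have hx : x ∈ Submodule.span R (t : Set M) := ht ▸ Submodule.mem_top
    induction hx using Submodule.span_induction with
    | mem y hy =>
      obtain ⟨r, hr⟩ := hint (φ y) (Finset.mem_image_of_mem φ hy)
      exact ⟨r, hr⟩
    | zero => rw [map_zero, smul_zero]; exact Submodule.zero_mem _
    | add u v _ _ hu hv => rw [map_add, smul_add]; exact Submodule.add_mem _ hu hv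
    | smul r u _ hu => rw [map_smul, smul_comm]; exact Submodule.smul_mem _ r hu
  have hinj : Function.Injective (Algebra.linearMap R (Localization S)) :=
    IsLocalization.injective (Localization S) hS
  let ψ : M →ₗ[R] R := (LinearEquiv.ofInjective _ hinj).symm.toLinearMap ∘ₗ
    LinearMap.codRestrict _ (b • φ) hall
  refine ⟨⟨b, hb⟩, ψ, fun x => ?_⟩
  exact congrArg Subtype.val ((LinearEquiv.ofInjective _ hinj).apply_symm_apply
    (LinearMap.codRestrict _ (b • φ) hall x))

theorem isReflexive_localization (S : Submonoid R) (hS : S ≤ nonZeroDivisors R) (M : Type u)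
    [AddCommGroup M] [Module R M] [Module.Finite R M] [IsNoetherianRing R] [Module.IsReflexive R M] :
    Module.IsReflexive (Localization S) (LocalizedModule S M) := by
  haveI : IsDomain (Localization S) := IsLocalization.isDomain_localization hS
  haveI : IsNoetherianRing (Localization S) := IsLocalization.isNoetherianRing S _ ‹_›
  haveI : Module.Finite (Localization S) (LocalizedModule S M) :=
    Module.Finite.of_isLocalizedModule S (LocalizedModule.mkLinearMap S M)
  obtain ⟨n, m, f, g, hf, hfg⟩ := exists_exact_of_isReflexive (R := R) M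
  haveI : ∀ k : ℕ, Module.Free (Localization S) (LocalizedModule S (Fin k → R)) := fun k =>
    .of_basis ((Pi.basisFun R (Fin k)).ofIsLocalizedModule (Localization S) S
      (LocalizedModule.mkLinearMap S (Fin k → R)))
  haveI : ∀ k : ℕ, Module.Finite (Localization S) (LocalizedModule S (Fin k → R)) := fun k =>
    Module.Finite.of_isLocalizedModule S (LocalizedModule.mkLinearMap S (Fin k → R))
  exact isReflexive_of_exact (R := Localization S) (LocalizedModule.map S f) (LocalizedModule.map S g)
    (LocalizedModule.map_injective S f hf) (LocalizedModule.map_exact S f g hfg)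

/-- Reflexivity at a prime gives membership in the range of evaluation up to a unit there. -/
theorem exists_smul_mem_range_eval (M : Type u) [AddCommGroup M] [Module R M] [Module.Finite R M]
    (m : Ideal R) [m.IsPrime] [Module.IsReflexive (Localization.AtPrime m) (LocalizedModule m.primeCompl M)]
    (y : Module.Dual R (Module.Dual R M)) :
    ∃ s : R, s ∉ m ∧ s • y ∈ LinearMap.range (Module.Dual.eval R M) := by
  classical
  obtain ⟨c, hc, -, hc2⟩ := eval_kernel_cokernel_torsion R M
  set A := Localization.AtPrime m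
  set Mm := LocalizedModule m.primeCompl M
  let mk := LocalizedModule.mkLinearMap m.primeCompl M
  have hc0 : algebraMap R A c ≠ 0 := by
    rw [Ne, map_eq_zero_iff _ (IsLocalization.injective _ m.primeCompl_le_nonZeroDivisors)]
    exact hc
  obtain ⟨x, hx⟩ := hc2 y
  let ev : Module.Dual A Mm →ₗ[A] A := Module.Dual.eval A Mm (mk x)
  have hev : ∀ φ, ev φ ∈ A ∙ algebraMap R A c := by
    intro φ
    obtain ⟨s, ψ, hψ⟩ := exists_dual_lift (R := R) m.primeCompl m.primeCompl_le_nonZeroDivisors
      ((φ.restrictScalars R) ∘ₗ mk)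
    have h1 : ψ x = c * y ψ := LinearMap.congr_fun hx ψ
    have h2 : algebraMap R A (ψ x) = algebraMap R A s * ev φ :=
      (hψ x).trans (Algebra.smul_def (A := A) _ _)
    have hu : IsUnit (algebraMap R A (s : R)) := IsLocalization.map_units A s
    rw [h1, map_mul] at h2
    rw [Submodule.mem_span_singleton]
    refine ⟨↑hu.unit⁻¹ * algebraMap R A (y ψ), ?_⟩
    rw [smul_eq_mul, mul_assoc, mul_comm _ (algebraMap R A c), h2, ← mul_assoc,
      IsUnit.val_inv_mul, one_mul]
  let Y : Module.Dual A (Module.Dual A Mm) :=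
    (LinearEquiv.toSpanNonzeroSingleton A A _ hc0).symm.toLinearMap ∘ₗ LinearMap.codRestrict _ ev hev
  obtain ⟨w, hw⟩ := (Module.bijective_dual_eval A Mm).2 Y
  have hcw : algebraMap R A c • w = mk x := by
    refine (Module.bijective_dual_eval A Mm).1 (LinearMap.ext fun φ => ?_)
    have h3 : algebraMap R A c * φ w = ev φ := by
      have h4 : φ w = Y φ := LinearMap.congr_fun hw φ
      have h5 := congrArg Subtype.val ((LinearEquiv.toSpanNonzeroSingleton A A _ hc0).apply_symm_apply
        (LinearMap.codRestrict _ ev hev φ))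
      rw [LinearEquiv.toSpanNonzeroSingleton_apply] at h5
      rw [h4, mul_comm]
      exact h5
    simpa [ev, Algebra.smul_def] using h3
  obtain ⟨⟨v, t⟩, hv⟩ := IsLocalizedModule.surj m.primeCompl mk w
  rw [algebraMap_smul] at hcw
  have h6 : mk ((t : R) • x) = mk (c • v) := by
    rw [map_smul, map_smul, ← hcw, ← hv, Submonoid.smul_def, smul_comm]
  obtain ⟨u, hu⟩ := (IsLocalizedModule.eq_iff_exists m.primeCompl mk).mp h6
  refine ⟨(u : R) * (t : R), m.primeCompl.mul_mem u.2 t.2, (u : R) • v, ?_⟩
  haveI := isTorsionFree_hom (R := R) (Module.Dual R M) R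
  refine smul_right_injective (Module.Dual R (Module.Dual R M)) hc ?_
  show c • Module.Dual.eval R M ((u : R) • v) = c • ((u : R) * (t : R)) • y
  rw [← map_smul, smul_comm c (u : R), ← Submonoid.smul_def, ← hu, Submonoid.smul_def, map_smul,
    map_smul, hx, smul_smul, smul_smul, smul_smul]
  congr 1
  ring

/-- A finite module whose localisations at maximal ideals are reflexive is reflexive. -/
theorem isReflexive_of_localization (M : Type u) [AddCommGroup M] [Module R M] [Module.Finite R M]
    (h : ∀ (m : Ideal R) (_ : m.IsMaximal),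
      Module.IsReflexive (Localization.AtPrime m) (LocalizedModule m.primeCompl M)) :
    Module.IsReflexive R M := by
  classical
  haveI : Module.IsTorsionFree R M := by
    refine Module.IsTorsionFree.mk fun r hr x y hxy => ?_
    by_contra hne
    obtain ⟨m, hm, hle⟩ := Ideal.exists_le_maximal (Submodule.colon (⊥ : Submodule R M) {x - y}) (by
      rw [Ne, Ideal.eq_top_iff_one, Submodule.mem_colon_singleton, one_smul, Submodule.mem_bot, sub_eq_zero]
      exact hne)
    haveI := h m hm
    have hr0 : algebraMap R (Localization.AtPrime m) r ≠ 0 := by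
      rw [Ne, map_eq_zero_iff _ (IsLocalization.injective _ m.primeCompl_le_nonZeroDivisors)]
      exact hr.ne_zero
    have h1 : algebraMap R (Localization.AtPrime m) r •
        LocalizedModule.mkLinearMap m.primeCompl M (x - y) = 0 := by
      rw [algebraMap_smul, ← map_smul, smul_sub, sub_eq_zero.mpr hxy, map_zero]
    have h2 := (smul_eq_zero.mp h1).resolve_left hr0
    obtain ⟨s, hs⟩ := (IsLocalizedModule.eq_zero_iff m.primeCompl _).mp h2
    refine s.2 (hle ?_)
    rw [Submodule.mem_colon_singleton, Submodule.mem_bot]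
    exact hs
  refine ⟨⟨(eval_injective_iff R M).mpr inferInstance, fun y => ?_⟩⟩
  by_contra hy
  obtain ⟨m, hm, hle⟩ := Ideal.exists_le_maximal
    (Submodule.colon (LinearMap.range (Module.Dual.eval R M)) {y}) (by
    rw [Ne, Ideal.eq_top_iff_one, Submodule.mem_colon_singleton, one_smul]
    exact hy)
  haveI := h m hm
  obtain ⟨s, hs, hsy⟩ := exists_smul_mem_range_eval (R := R) M m y
  exact hs (hle (Submodule.mem_colon_singleton.mpr hsy))

theorem surjective_eval_of_free_quotient {M Q : Type u} [AddCommGroup M] [Module R M] [AddCommGroup Q]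
    [Module R Q] [Module.Finite R Q] [Module.Free R Q] (π : M →ₗ[R] Q) (hπ : Function.Surjective π)
    (hker : ∀ (φ : Module.Dual R M) (x : M), π x = 0 → φ x = 0) :
    Function.Surjective (Module.Dual.eval R M) := by
  intro y
  obtain ⟨q, hq⟩ := (Module.bijective_dual_eval R Q).2 (y ∘ₗ π.dualMap)
  obtain ⟨m, rfl⟩ := hπ q
  refine ⟨m, LinearMap.ext fun φ => ?_⟩
  let ψ : Module.Dual R Q := (LinearMap.ker π).liftQ φ (fun x hx => hker φ x hx) ∘ₗ
    (π.quotKerEquivOfSurjective hπ).symm.toLinearMap
  have hψ : π.dualMap ψ = φ := LinearMap.ext fun x => by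
    have h5 : (π.quotKerEquivOfSurjective hπ).symm (π x) = Submodule.Quotient.mk x := by
      rw [LinearEquiv.symm_apply_eq]; rfl
    simp [ψ, h5]
  have := LinearMap.congr_fun hq ψ
  rw [LinearMap.comp_apply, hψ] at this
  rw [← this]
  simp only [Module.Dual.eval_apply]
  rw [← hψ]
  rfl

end Groth.Agent.DomMod
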