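import Mathlib.LinearAlgebra.Dimension.Finite
import Mathlib.LinearAlgebra.Dimension.StrongRankCondition
import Mathlib.LinearAlgebra.Dual.Lemmas
import Mathlib.RingTheory.Finiteness.Basic
import Mathlib.LinearAlgebra.FreeModule.Basic

/-!
Finite modules over a domain.
-/

set_option autoImplicit false
set_option linter.style.haveILetI false

universe u v

namespace Groth.Agent.DomMod

variable (R : Type u) [CommRing R] [IsDomain R] (M : Type v) [AddCommGroup M] [Module R M]
  [Module.Finite R M]

/-- A finite module over a domain is free of rank `finrank` up to a nonzero scalar. -/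
theorem exists_basis_up_to_scalar :
    ∃ (L : (Fin (Module.finrank R M) → R) →ₗ[R] M) (h : M →ₗ[R] (Fin (Module.finrank R M) → R))
      (c : R), c ≠ 0 ∧ Function.Injective L ∧ (∀ m, L (h m) = c • m) ∧ ∀ z, h (L z) = c • z := by
  classical
  obtain ⟨v, hv⟩ := exists_linearIndependent_of_le_finrank (R := R) (M := M) le_rfl
  let L : (Fin (Module.finrank R M) → R) →ₗ[R] M := Fintype.linearCombination R v
  have hL : Function.Injective L := linearIndependent_iff_injective_fintypeLinearCombination.mp hv
  have h1 : ∀ m : M, ∃ c : R, c ≠ 0 ∧ c • m ∈ LinearMap.range L := by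
    intro m
    have hdep : ¬ LinearIndependent R (Fin.cons m v : Fin (Module.finrank R M + 1) → M) := fun h => by
      have := h.fintype_card_le_finrank
      simp only [Fintype.card_fin] at this
      omega
    obtain ⟨g, hg, i, hi⟩ := Fintype.not_linearIndependent_iff.mp hdep
    rw [Fin.sum_univ_succ] at hg
    simp only [Fin.cons_zero, Fin.cons_succ] at hg
    refine ⟨g 0, fun h0 => hi ?_, fun j => - g j.succ, ?_⟩
    · rw [h0, zero_smul, zero_add] at hg
      have := Fintype.linearIndependent_iff.mp hv _ hg
      exact Fin.cases h0 this i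
    · simp only [L, Fintype.linearCombination_apply, neg_smul, Finset.sum_neg_distrib]
      exact (eq_neg_of_add_eq_zero_left hg).symm
  choose c hc0 hc using h1
  obtain ⟨s, hs⟩ := (Module.Finite.fg_top : (⊤ : Submodule R M).FG)
  have hall : ∀ m : M, (∏ x ∈ s, c x) • m ∈ LinearMap.range L := by
    intro m
    have hm : m ∈ Submodule.span R (s : Set M) := hs ▸ Submodule.mem_top
    induction hm using Submodule.span_induction with
    | mem x hx =>
      rw [← Finset.prod_erase_mul s c hx, mul_smul]
      exact Submodule.smul_mem _ _ (hc x)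
    | zero => rw [smul_zero]; exact Submodule.zero_mem _
    | add x y _ _ hx hy => rw [smul_add]; exact Submodule.add_mem _ hx hy
    | smul r x _ hx => rw [smul_comm]; exact Submodule.smul_mem _ r hx
  let h : M →ₗ[R] (Fin (Module.finrank R M) → R) :=
    (LinearEquiv.ofInjective L hL).symm.toLinearMap ∘ₗ
      LinearMap.codRestrict _ ((∏ x ∈ s, c x) • LinearMap.id) hall
  have hLh : ∀ m, L (h m) = (∏ x ∈ s, c x) • m := fun m => by
    have := congrArg Subtype.val ((LinearEquiv.ofInjective L hL).apply_symm_apply
      (LinearMap.codRestrict _ ((∏ x ∈ s, c x) • LinearMap.id) hall m))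
    simpa [h] using this
  exact ⟨L, h, _, Finset.prod_ne_zero_iff.mpr fun x _ => hc0 x, hL, hLh,
    fun z => hL (by rw [hLh, map_smul])⟩

theorem exists_injective_of_isTorsionFree [Module.IsTorsionFree R M] :
    ∃ (n : ℕ) (f : M →ₗ[R] (Fin n → R)), Function.Injective f := by
  obtain ⟨L, h, c, hc, -, hLh, -⟩ := exists_basis_up_to_scalar R M
  refine ⟨_, h, fun x y hxy => ?_⟩
  have := congrArg L hxy
  rw [hLh, hLh] at this
  exact (smul_right_injective M hc) this

theorem isTorsionFree_iff_exists_injective :
    Module.IsTorsionFree R M ↔ ∃ (n : ℕ) (f : M →ₗ[R] (Fin n → R)), Function.Injective f :=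
  ⟨fun _ => exists_injective_of_isTorsionFree R M,
    fun ⟨_, f, hf⟩ => hf.moduleIsTorsionFree f f.map_smul⟩

theorem eval_injective_iff :
    Function.Injective (Module.Dual.eval R M) ↔ Module.IsTorsionFree R M := by
  refine ⟨fun h => h.moduleIsTorsionFree _ (Module.Dual.eval R M).map_smul, fun _ => ?_⟩
  obtain ⟨n, f, hf⟩ := exists_injective_of_isTorsionFree R M
  rw [injective_iff_map_eq_zero]
  intro m hm
  apply hf
  rw [map_zero]
  funext i
  exact LinearMap.congr_fun hm (LinearMap.proj i ∘ₗ f)

theorem eval_kernel_cokernel_torsion :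
    ∃ c : R, c ≠ 0 ∧ (∀ x : M, Module.Dual.eval R M x = 0 → c • x = 0) ∧
      ∀ y : Module.Dual R (Module.Dual R M), c • y ∈ LinearMap.range (Module.Dual.eval R M) := by
  classical
  obtain ⟨L, h, c, hc, -, hLh, -⟩ := exists_basis_up_to_scalar R M
  refine ⟨c, hc, fun x hx => ?_, fun y => ⟨L fun i => y (LinearMap.proj i ∘ₗ h), ?_⟩⟩
  · rw [← hLh]
    have : h x = 0 := funext fun i =>
      LinearMap.congr_fun hx ((LinearMap.proj i : (Fin _ → R) →ₗ[R] R) ∘ₗ h)
    rw [this, map_zero]
  · refine LinearMap.ext fun φ => ?_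
    have h2 : c • φ = ∑ i, φ (L (Pi.single i 1)) • (LinearMap.proj i ∘ₗ h) := by
      refine LinearMap.ext fun m => ?_
      rw [LinearMap.smul_apply, ← map_smul, ← hLh, pi_eq_sum_univ' (h m)]
      simp [map_sum, mul_comm]
    rw [Module.Dual.eval_apply, LinearMap.smul_apply, ← map_smul, h2, map_sum,
      pi_eq_sum_univ' (fun i => y (LinearMap.proj i ∘ₗ h))]
    simp [map_sum, mul_comm]

end Groth.Agent.DomMod
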