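import Groth.Agent.Depth.Local
import Mathlib.RingTheory.TensorProduct.IsBaseChangePi
import Mathlib.LinearAlgebra.StdBasis
import Mathlib.RingTheory.KrullDimension.Module

/-!
Depth of kernels and of modules of homomorphisms.
-/

set_option autoImplicit false
set_option linter.style.haveILetI false

universe u

open IsLocalRing

namespace Groth.Agent.DomMod.HomDepth

open Groth.Agent.Depth

variable {R : Type u} [CommRing R] [IsNoetherianRing R] {I : Ideal R}

theorem one_le_idealDepth_of_injective {K A : Type u} [AddCommGroup K] [Module R K] [Module.Finite R K]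
    [AddCommGroup A] [Module R A] [Module.Finite R A] (f : K →ₗ[R] A) (hf : Function.Injective f)
    (h : 1 ≤ LocCoh.idealDepth I A) : 1 ≤ LocCoh.idealDepth I K :=
  one_le_idealDepth_iff.mpr fun p hp => one_le_idealDepth_iff.mp h p (associatedPrimes.subset_of_injective hf hp)

/-- Depth of a kernel: `n ≤ 2` bounds pass to the kernel of a map between modules of depth `≥ n`. -/
theorem le_idealDepth_kernel {K A B : Type u} [AddCommGroup K] [Module R K] [Module.Finite R K]
    [AddCommGroup A] [Module R A] [Module.Finite R A] [AddCommGroup B] [Module R B] [Module.Finite R B]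
    (f : K →ₗ[R] A) (g : A →ₗ[R] B) (hf : Function.Injective f) (hfg : Function.Exact f g)
    {n : ℕ} (hn : n ≤ 2) (hA : (n : ℕ∞) ≤ LocCoh.idealDepth I A) (hB : (n : ℕ∞) ≤ LocCoh.idealDepth I B) :
    (n : ℕ∞) ≤ LocCoh.idealDepth I K := by
  rcases n with - | m
  · exact zero_le
  have h1A : 1 ≤ LocCoh.idealDepth I A := le_trans (by simp) hA
  have h1B : 1 ≤ LocCoh.idealDepth I B := le_trans (by simp) hB
  rcases m with - | m
  · simpa using one_le_idealDepth_of_injective f hf h1A
  obtain rfl : m = 0 := by omega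
  have hR : 1 ≤ LocCoh.idealDepth I (LinearMap.range g) :=
    one_le_idealDepth_of_injective (LinearMap.range g).subtype (Submodule.injective_subtype _) h1B
  refine le_trans (le_min hA ?_) (min_le_idealDepth_X₁ hf g.surjective_rangeRestrict (f := f)
    (LinearMap.exact_iff.mpr (by rw [LinearMap.ker_rangeRestrict]; exact LinearMap.exact_iff.mp hfg)))
  calc ((0 + 1 + 1 : ℕ) : ℕ∞) = 1 + 1 := rfl
    _ ≤ _ := add_le_add hR le_rfl

theorem le_idealDepth_prod {A B : Type u} [AddCommGroup A] [Module R A] [Module.Finite R A]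
    [AddCommGroup B] [Module R B] [Module.Finite R B] :
    min (LocCoh.idealDepth I A) (LocCoh.idealDepth I B) ≤ LocCoh.idealDepth I (A × B) :=
  min_le_idealDepth_X₂ (f := LinearMap.inl R A B) (g := LinearMap.snd R A B) LinearMap.inl_injective
    LinearMap.snd_surjective Function.Exact.inl_snd

theorem le_idealDepth_pi (N : Type u) [AddCommGroup N] [Module R N] [Module.Finite R N] (k : ℕ) :
    LocCoh.idealDepth I N ≤ LocCoh.idealDepth I (Fin k → N) := by
  induction k with
  | zero => rw [idealDepth_eq_top_of_subsingleton (M := Fin 0 → N)]; exact le_top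
  | succ k ih =>
    have e : (N × (Fin k → N)) ≃ₗ[R] (Fin (k + 1) → N) := Fin.consLinearEquiv R (fun _ => N)
    rw [← idealDepth_congr e]
    exact le_trans (le_min le_rfl ih) le_idealDepth_prod

/-- The standard presentation of `Hom(M, N)` as a kernel. -/
theorem exists_hom_exact (M N : Type u) [AddCommGroup M] [Module R M] [Module.Finite R M]
    [AddCommGroup N] [Module R N] :
    ∃ (n m : ℕ) (f : (M →ₗ[R] N) →ₗ[R] (Fin n → N)) (g : (Fin n → N) →ₗ[R] (Fin m → N)),
      Function.Injective f ∧ Function.Exact f g := by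
  classical
  obtain ⟨n, π, hπ⟩ := Module.Finite.exists_fin' R M
  haveI : Module.Finite R (LinearMap.ker π) := Module.Finite.iff_fg.mpr (IsNoetherian.noetherian _)
  obtain ⟨m, ρ, hρ⟩ := Module.Finite.exists_fin' R (LinearMap.ker π)
  let e : ∀ k, (((Fin k → R) →ₗ[R] N) ≃ₗ[R] (Fin k → N)) := fun k => (Pi.basisFun R (Fin k)).constr R |>.symm
  let F : (M →ₗ[R] N) →ₗ[R] (Fin n → N) := (e n).toLinearMap ∘ₗ LinearMap.lcomp R N π
  let G : (Fin n → N) →ₗ[R] (Fin m → N) :=
    (e m).toLinearMap ∘ₗ LinearMap.lcomp R N ((LinearMap.ker π).subtype ∘ₗ ρ) ∘ₗ (e n).symm.toLinearMap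
  have hF : Function.Injective F := (e n).injective.comp fun φ ψ h => LinearMap.ext fun x => by
    obtain ⟨z, rfl⟩ := hπ x; exact LinearMap.congr_fun h z
  refine ⟨n, m, F, G, hF, fun v => ?_⟩
  obtain ⟨φ, rfl⟩ := (e n).surjective v
  simp only [G, LinearMap.comp_apply, LinearEquiv.coe_coe, LinearEquiv.symm_apply_apply,
    LinearEquiv.map_eq_zero_iff, F, Set.mem_range, EmbeddingLike.apply_eq_iff_eq]
  constructor
  · intro hφ
    have hV : LinearMap.ker π ≤ LinearMap.ker φ := by
      intro z hz
      obtain ⟨w, hw⟩ := hρ ⟨z, hz⟩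
      simpa [hw] using LinearMap.congr_fun hφ w
    refine ⟨(LinearMap.ker π).liftQ φ hV ∘ₗ (π.quotKerEquivOfSurjective hπ).symm.toLinearMap,
      LinearMap.ext fun z => ?_⟩
    have h5 : (π.quotKerEquivOfSurjective hπ).symm (π z) = Submodule.Quotient.mk z := by
      rw [LinearEquiv.symm_apply_eq]; rfl
    simp [h5]
  · rintro ⟨ψ, rfl⟩
    exact LinearMap.ext fun w => by simp [(ρ w).2]

theorem le_idealDepth_hom (M N : Type u) [AddCommGroup M] [Module R M] [Module.Finite R M]
    [AddCommGroup N] [Module R N] [Module.Finite R N] {n : ℕ} (hn : n ≤ 2)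
    (h : (n : ℕ∞) ≤ LocCoh.idealDepth I N) : (n : ℕ∞) ≤ LocCoh.idealDepth I (M →ₗ[R] N) := by
  obtain ⟨a, b, f, g, hf, hfg⟩ := exists_hom_exact (R := R) M N
  haveI : IsNoetherian R (Fin a → N) := isNoetherian_of_isNoetherianRing_of_finite R _
  haveI : Module.Finite R (M →ₗ[R] N) := Module.Finite.of_injective f hf
  exact le_idealDepth_kernel f g hf hfg hn (h.trans (le_idealDepth_pi N a)) (h.trans (le_idealDepth_pi N b))

/-- `LocalizedModule` commutes with finite powers. -/
noncomputable def localizedPiEquiv (S : Submonoid R) (N : Type u) [AddCommGroup N] [Module R N] (k : ℕ) :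
    LocalizedModule S (Fin k → N) ≃ₗ[Localization S] (Fin k → LocalizedModule S N) :=
  (IsLocalizedModule.iso S (LinearMap.pi fun i : Fin k =>
    LocalizedModule.mkLinearMap S N ∘ₗ LinearMap.proj i)).extendScalarsOfIsLocalization S (Localization S)

theorem min_supportDim_le_depth {n : ℕ} (hn : n ≤ 2) {S : Type u} [CommRing S] [IsLocalRing S]
    [IsNoetherianRing S] {A B : Type u} [AddCommGroup A] [Module S A] [AddCommGroup B] [Module S B]
    (hle : Module.supportDim S A ≤ Module.supportDim S B)
    (himp : ∀ k : ℕ, k ≤ 2 → (k : ℕ∞) ≤ LocCoh.depth S B → (k : ℕ∞) ≤ LocCoh.depth S A)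
    (h : min (n : WithBot ℕ∞) (Module.supportDim S B) ≤ ((LocCoh.depth S B : ℕ∞) : WithBot ℕ∞)) :
    min (n : WithBot ℕ∞) (Module.supportDim S A) ≤ ((LocCoh.depth S A : ℕ∞) : WithBot ℕ∞) := by
  rcases hd : Module.supportDim S A with _ | d
  · exact le_trans (min_le_right _ _) bot_le
  · obtain ⟨e, he⟩ : ∃ k : ℕ, (k : ℕ∞) = min (n : ℕ∞) d :=
      ENat.ne_top_iff_exists.mp (ne_top_of_le_ne_top (ENat.coe_ne_top n) (min_le_left _ _))
    have he2 : e ≤ 2 := by
      have : (e : ℕ∞) ≤ (n : ℕ∞) := he ▸ min_le_left _ _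
      exact le_trans (by exact_mod_cast this) hn
    have h1 : ((e : ℕ∞) : WithBot ℕ∞) ≤ ((LocCoh.depth S B : ℕ∞) : WithBot ℕ∞) := by
      rw [he]
      refine le_trans (le_min ?_ ?_) h
      · exact (WithBot.coe_le_coe.mpr (min_le_left _ _)).trans_eq rfl
      · exact le_trans ((WithBot.coe_le_coe.mpr (min_le_right _ _)).trans_eq hd.symm) hle
    have h2 := himp e he2 (WithBot.coe_le_coe.mp h1)
    rw [he] at h2
    exact le_trans (le_of_eq (by rw [WithBot.coe_min]; rfl)) (WithBot.coe_le_coe.mpr h2)

theorem supportDim_pi_le {S : Type u} [CommRing S] (a : ℕ) (A : Type u) [AddCommGroup A] [Module S A] :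
    Module.supportDim S (Fin a → A) ≤ Module.supportDim S A := by
  classical
  have hsub : Module.support S (Fin a → A) ⊆ Module.support S A := fun q hq => by
    rw [Module.mem_support_iff'] at hq ⊢
    obtain ⟨x, hx⟩ := hq
    by_contra hc
    push Not at hc
    choose r hr hr0 using fun i => hc (x i)
    refine hx (∏ i, r i) (fun hmem => ?_) (funext fun i => ?_)
    · obtain ⟨i, -, hi⟩ := q.isPrime.prod_mem_iff.mp hmem
      exact hr i hi
    · rw [Pi.smul_apply, ← Finset.prod_erase_mul Finset.univ r (Finset.mem_univ i), mul_smul, hr0,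
        smul_zero, Pi.zero_apply]
  exact Order.krullDim_le_of_strictMono (fun z => ⟨z.1, hsub z.2⟩) fun _ _ h => h

theorem hasSk_kernel {K N : Type u} [AddCommGroup K] [Module R K] [Module.Finite R K]
    [AddCommGroup N] [Module R N] [Module.Finite R N] {a b : ℕ}
    (f : K →ₗ[R] (Fin a → N)) (g : (Fin a → N) →ₗ[R] (Fin b → N)) (hf : Function.Injective f)
    (hfg : Function.Exact f g) {n : ℕ} (hn : n ≤ 2) (h : LocCoh.HasSk n R N) : LocCoh.HasSk n R K := by
  intro p _
  set A := Localization.AtPrime p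
  let fp : LocalizedModule p.primeCompl K →ₗ[A] (Fin a → LocalizedModule p.primeCompl N) :=
    (localizedPiEquiv p.primeCompl N a).toLinearMap ∘ₗ LocalizedModule.map p.primeCompl f
  let gp : (Fin a → LocalizedModule p.primeCompl N) →ₗ[A] (Fin b → LocalizedModule p.primeCompl N) :=
    (localizedPiEquiv p.primeCompl N b).toLinearMap ∘ₗ LocalizedModule.map p.primeCompl g ∘ₗ
      (localizedPiEquiv p.primeCompl N a).symm.toLinearMap
  have hfp : Function.Injective fp :=
    (localizedPiEquiv p.primeCompl N a).injective.comp (LocalizedModule.map_injective _ f hf)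
  have hex : Function.Exact fp gp := fun v => by
    obtain ⟨w, rfl⟩ := (localizedPiEquiv p.primeCompl N a).surjective v
    simp only [gp, fp, LinearMap.comp_apply, LinearEquiv.coe_coe, LinearEquiv.symm_apply_apply,
      LinearEquiv.map_eq_zero_iff, LinearMap.coe_comp, Set.range_comp]
    refine ((LocalizedModule.map_exact p.primeCompl f g hfg) w).trans ?_
    rw [Set.mem_image]
    exact ⟨fun h => ⟨w, h, rfl⟩, fun ⟨z, hz, hzw⟩ => (localizedPiEquiv p.primeCompl N a).injective hzw ▸ hz⟩
  haveI : Module.Finite A (LocalizedModule p.primeCompl N) :=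
    Module.Finite.of_isLocalizedModule p.primeCompl (LocalizedModule.mkLinearMap p.primeCompl N)
  haveI : Module.Finite A (LocalizedModule p.primeCompl K) :=
    Module.Finite.of_isLocalizedModule p.primeCompl (LocalizedModule.mkLinearMap p.primeCompl K)
  refine min_supportDim_le_depth hn (B := LocalizedModule p.primeCompl N) ?_ (fun k hk hB =>
    le_idealDepth_kernel fp gp hfp hex hk (hB.trans (le_idealDepth_pi _ a)) (hB.trans (le_idealDepth_pi _ b)))
    (h p)
  refine le_trans (Module.supportDim_le_of_injective fp hfp) ?_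
  exact supportDim_pi_le a _

end Groth.Agent.DomMod.HomDepth
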